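import Groth.Agent.Lib.AnPts.Maps
import Groth.Prelude.Def_AnHol
import Mathlib.Analysis.Calculus.FDeriv.Comp
import Mathlib.Analysis.Calculus.FDeriv.Mul
import Mathlib.Analysis.Calculus.FDeriv.Pi
import Mathlib.Analysis.Calculus.Deriv.Inv

/-!
# Holomorphic functions: regular functions as fractions, affine space
-/

open AlgebraicGeometry CategoryTheory TopologicalSpace Opposite Topology

noncomputable section

namespace Groth.Agent.Lib.AnHol

open An Groth.Agent.Lib.AnPts

variable {X : Scheme.{0}} [X.Over SC]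

/-- On an affine scheme a section near a point is a fraction of global sections. -/
lemma exists_frac_ev [IsAffine X] {U : X.Opens} (f : Γ(X, U)) {x : Pts X} (hx : x.pt ∈ U) :
    ∃ (g a : Γ(X, ⊤)) (k : ℕ), x.evTop g ≠ 0 ∧
      ∀ y : Pts X, y.evTop g ≠ 0 → ∃ h : y.pt ∈ U, y.ev U h f = y.evTop a / y.evTop g ^ k := by
  obtain ⟨g, hgU, hxg⟩ := (isAffineOpen_top X).exists_basicOpen_le (V := U) ⟨x.pt, hx⟩ (Opens.mem_top _)
  let res : Γ(X, U) := f
  let f' : Γ(X, X.basicOpen g) := X.presheaf.map (homOfLE hgU).op res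
  have := (isAffineOpen_top X).isLocalization_basicOpen g
  obtain ⟨⟨a, ⟨_, n, rfl⟩⟩, ha⟩ := IsLocalization.surj (Submonoid.powers g) f'
  refine ⟨g, a, n, (pt_mem_basicOpen_iff x (Opens.mem_top _) g).1 hxg, fun y hy0 => ?_⟩
  have hy : y.pt ∈ X.basicOpen g := (pt_mem_basicOpen_iff y (Opens.mem_top _) g).2 hy0
  refine ⟨hgU hy, ?_⟩
  have h1 : y.ev (X.basicOpen g) hy f' = y.ev U (hgU hy) f := ev_map_res y hgU hy f
  have h2 := congrArg (evHom y (X.basicOpen g) hy) ha
  simp only [map_mul] at h2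
  have h3 : ∀ b : Γ(X, ⊤),
      evHom y (X.basicOpen g) hy (algebraMap Γ(X, ⊤) Γ(X, X.basicOpen g) b) = y.evTop b :=
    fun b => ev_map_res y (X.basicOpen_le g) hy b
  rw [h3, h3] at h2
  rw [← h1, eq_div_iff (pow_ne_zero _ hy0)]
  have h4 : y.evTop (g ^ n) = y.evTop g ^ n := AnPts.ev_pow y ⊤ _ g n
  rw [← h4]
  exact h2

lemma differentiable_eval {n : ℕ} (f : MvPolynomial (Fin n) ℂ) :
    Differentiable ℂ (fun t => MvPolynomial.eval t f) := by
  induction f using MvPolynomial.induction_on with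
  | C a => simp
  | add f g hf hg => simp only [map_add]; exact hf.fun_add hg
  | mul_X f i hf => simp only [map_mul, MvPolynomial.eval_X]; exact hf.fun_mul (differentiable_apply i)

section AffineSpace

open AlgebraicGeometry.AffineSpace

variable (n : ℕ)

/-- The coordinates. -/
abbrev crd (x : Pts (𝔸(Fin n; SC))) : Fin n → ℂ := fun i => x.evTop (coord SC i)

variable {n}

lemma differentiableAt_ev {W : (𝔸(Fin n; SC)).Opens} (s : Γ(𝔸(Fin n; SC), W)) {x : Pts (𝔸(Fin n; SC))}
    (hx : x.pt ∈ W) :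
    ∃ F : (Fin n → ℂ) → ℂ, DifferentiableAt ℂ F (crd n x) ∧
      ∀ᶠ y in 𝓝 x, ∃ h : y.pt ∈ W, y.ev W h s = F (crd n y) := by
  obtain ⟨g, a, k, hg0, hga⟩ := exists_frac_ev s hx
  obtain ⟨P, rfl⟩ := (bijective_eval₂_coord n).2 g
  obtain ⟨Q, rfl⟩ := (bijective_eval₂_coord n).2 a
  refine ⟨fun z => MvPolynomial.eval z Q / MvPolynomial.eval z P ^ k, ?_, ?_⟩
  · have h1 : DifferentiableAt ℂ (fun z => MvPolynomial.eval z Q) (crd n x) := differentiable_eval Q _
    have h2 : DifferentiableAt ℂ (fun z => MvPolynomial.eval z P ^ k) (crd n x) :=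
      ((differentiable_eval P) (crd n x)).fun_pow k
    simp only [div_eq_mul_inv]
    refine h1.fun_mul (h2.fun_inv ?_)
    rw [← evTop_eval₂]
    exact pow_ne_zero k hg0
  · filter_upwards [(continuous_evTop _).continuousAt.eventually_ne hg0] with y hy
    obtain ⟨h, e⟩ := hga y hy
    exact ⟨h, by rw [e, evTop_eval₂, evTop_eval₂]⟩

theorem holomorphic_affineSpace_iff (U : Opens (Pts (𝔸(Fin n; SC)))) (g : U → ℂ) :
    (holPred (𝔸(Fin n; SC))).pred g ↔
      ∃ G : (Fin n → ℂ) → ℂ,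
        DifferentiableOn ℂ G (crd n '' (U : Set (Pts (𝔸(Fin n; SC))))) ∧
        ∀ x : U, g x = G (crd n x) := by
  classical
  have he := isHomeomorph_coord n
  constructor
  · intro hg
    let G : (Fin n → ℂ) → ℂ := fun z => if h : ∃ x : U, crd n x = z then g h.choose else 0
    have hG : ∀ x : U, g x = G (crd n x) := fun x => by
      have h : ∃ x' : U, crd n x' = crd n x := ⟨x, rfl⟩
      simp only [G, dif_pos h]
      exact congrArg g (Subtype.ext (he.injective h.choose_spec.symm))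
    refine ⟨G, ?_, hG⟩
    rintro _ ⟨x, hx, rfl⟩
    refine DifferentiableAt.differentiableWithinAt ?_
    obtain ⟨U', hxU', i, hU'⟩ := hg ⟨x, hx⟩
    let f : U' → ℂ := fun y => g ⟨y.1, i.le y.2⟩
    have hkey : ∀ f : U' → ℂ, f ∈ chartAlg U' → ∃ F : (Fin n → ℂ) → ℂ,
        DifferentiableAt ℂ F (crd n x) ∧ ∀ᶠ y in 𝓝 x, ∀ hy : y ∈ U', f ⟨y, hy⟩ = F (crd n y) := by
      intro f hf
      induction hf using Algebra.adjoin_induction with
      | mem f hf =>
        obtain ⟨W, hW, m, s, V, G₁, hV, hG₁, hf⟩ := hf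
        choose F hF hFev using fun j => differentiableAt_ev (s j) (hW ⟨x, hxU'⟩)
        have hpt : (fun j => F j (crd n x)) ∈ V ∧
            (fun j => F j (crd n x)) = fun j => x.ev W (hW ⟨x, hxU'⟩) (s j) := by
          have e : (fun j => F j (crd n x)) = fun j => x.ev W (hW ⟨x, hxU'⟩) (s j) := funext fun j => by
            obtain ⟨h, e⟩ := (hFev j).self_of_nhds
            exact e.symm
          exact ⟨e ▸ (hf ⟨x, hxU'⟩).1, e⟩
        refine ⟨fun z => G₁ (fun j => F j z), ?_, ?_⟩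
        · exact (hG₁.differentiableAt (hV.mem_nhds hpt.1)).comp (crd n x)
            (differentiableAt_pi.2 hF)
        · filter_upwards [Filter.eventually_all.2 hFev] with y hy hyU
          rw [(hf ⟨y, hyU⟩).2]
          refine congrArg G₁ (funext fun j => ?_)
          obtain ⟨_, e⟩ := hy j
          exact e
      | algebraMap c => exact ⟨fun _ => c, differentiableAt_const c, .of_forall fun y _ => rfl⟩
      | add a b _ _ ha hb =>
        obtain ⟨A, hA, hA'⟩ := ha
        obtain ⟨B, hB, hB'⟩ := hb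
        exact ⟨fun z => A z + B z, hA.fun_add hB, (hA'.and hB').mono fun y h hy => by
          show a _ + b _ = _
          rw [h.1 hy, h.2 hy]⟩
      | mul a b _ _ ha hb =>
        obtain ⟨A, hA, hA'⟩ := ha
        obtain ⟨B, hB, hB'⟩ := hb
        exact ⟨fun z => A z * B z, hA.fun_mul hB, (hA'.and hB').mono fun y h hy => by
          show a _ * b _ = _
          rw [h.1 hy, h.2 hy]⟩
    obtain ⟨F, hF, hFev⟩ := hkey f (show f ∈ chartAlg U' from hU')
    refine hF.congr_of_eventuallyEq ?_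
    have hnhds : Filter.map (crd n) (𝓝 x) = 𝓝 (crd n x) := (he.homeomorph _).map_nhds_eq x
    rw [Filter.EventuallyEq, ← hnhds, Filter.eventually_map]
    filter_upwards [hFev, U'.2.mem_nhds hxU'] with y hy hyU'
    have : G (crd n y) = f ⟨y, hyU'⟩ := (hG ⟨y, i.le hyU'⟩).symm
    rw [this, hy hyU']
  · rintro ⟨G, hG, hgG⟩
    refine holPred_of_chartAlg (Algebra.subset_adjoin ?_)
    refine ⟨⊤, fun x => Opens.mem_top _, n, coord SC, crd n '' (U : Set _), G,
      he.isOpenMap _ U.2, hG, fun x => ⟨⟨x.1, x.2, rfl⟩, hgG x⟩⟩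

end AffineSpace

end Groth.Agent.Lib.AnHol
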